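import Cfsg.Agent.H2.Basic
import Cfsg.Agent.S0538

set_option autoImplicit false

open scoped Pointwise

namespace Cfsg.Agent.H2

variable {G : Type*} [Group G]

theorem subgroupOf_conj_smul_subnormal {S H : Subgroup G} (g : G)
    (h : (S.subgroupOf H).IsSubnormal) :
    ((MulAut.conj g • S).subgroupOf (MulAut.conj g • H)).IsSubnormal := by
  let f : (MulAut.conj g • H : Subgroup G) →* H :=
    { toFun := fun x => ⟨g⁻¹ * x * g, mem_conj_smul.mp x.2⟩
      map_one' := by ext; simp
      map_mul' := fun x y => by ext; simp [mul_assoc] }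
  have h2 := h.comap f
  convert h2 using 1
  ext x
  simp only [Subgroup.mem_subgroupOf, Subgroup.mem_comap, mem_conj_smul]
  rfl

/-- A subnormal subgroup that is not normal has a different conjugate that normalises it. -/
theorem exists_conj_ne_le_normalizer {S : Subgroup G} (hS : S.IsSubnormal) (hn : ¬ S.Normal) :
    ∃ x : G, MulAut.conj x • S ≠ S ∧ MulAut.conj x • S ≤ Subgroup.normalizer (S : Set G) := by
  have key : ∀ K : Subgroup G, K.IsSubnormal → S ≤ K → K ≤ Subgroup.normalizer (S : Set G) →
      ∃ x : G, MulAut.conj x • S ≠ S ∧ MulAut.conj x • S ≤ Subgroup.normalizer (S : Set G) := by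
    intro K hK
    induction hK with
    | top =>
      intro _ h
      exact absurd (Subgroup.normalizer_eq_top_iff.mp (top_le_iff.mp h)) hn
    | step H K hHK hK hN ih =>
      intro hSH hH
      by_cases hKN : K ≤ Subgroup.normalizer (S : Set G)
      · exact ih (hSH.trans hHK) hKN
      · obtain ⟨x, hxK, hx⟩ := SetLike.not_le_iff_exists.mp hKN
        refine ⟨x, fun h => hx (conj_smul_eq_iff_mem_normalizer.mp h), le_trans ?_ hH⟩
        have hxH : x ∈ Subgroup.normalizer (H : Set G) :=
          (Subgroup.normal_subgroupOf_iff_le_normalizer hHK).mp hN hxK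
        rw [← conj_smul_eq_iff_mem_normalizer.mpr hxH]
        exact Subgroup.pointwise_smul_le_pointwise_smul_iff.mpr hSH
  exact key S hS le_rfl Subgroup.le_normalizer

theorem subgroupOf_conj_smul (S K : Subgroup G) (x : K) :
    (MulAut.conj (x : G) • S).subgroupOf K = MulAut.conj x • S.subgroupOf K := by
  ext y
  simp [Subgroup.mem_subgroupOf, mem_conj_smul]

theorem subgroupOf_sup_of_le {S T K : Subgroup G} (hS : S ≤ K) (hT : T ≤ K) :
    (S ⊔ T).subgroupOf K = S.subgroupOf K ⊔ T.subgroupOf K := by
  apply Subgroup.map_injective K.subtype_injective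
  rw [Subgroup.map_sup, Subgroup.map_subgroupOf_eq_of_le hS, Subgroup.map_subgroupOf_eq_of_le hT,
    Subgroup.map_subgroupOf_eq_of_le (sup_le hS hT)]

/-- Wielandt's zipper lemma: a subgroup that is subnormal in every proper subgroup containing it,
but not in the whole finite group, lies in a unique maximal subgroup. -/
theorem zipper [Finite G] (S : Subgroup G)
    (h : ∀ H : Subgroup G, H ≠ ⊤ → S ≤ H → (S.subgroupOf H).IsSubnormal) (hS : ¬ S.IsSubnormal)
    {M K : Subgroup G} (hM : IsCoatom M) (hK : IsCoatom K) (hSM : S ≤ M) (hSK : S ≤ K) : M = K := by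
  induction S using WellFoundedGT.induction generalizing M K with
  | ind S ih =>
  have hNtop : Subgroup.normalizer (S : Set G) ≠ ⊤ := fun h' =>
    hS (Subgroup.normalizer_eq_top_iff.mp h').isSubnormal
  obtain ⟨M₀, hM₀, hNM₀⟩ := (eq_top_or_exists_le_coatom _).resolve_left hNtop
  suffices key : ∀ K : Subgroup G, IsCoatom K → S ≤ K → K = M₀ by
    rw [key M hM hSM, key K hK hSK]
  intro K hK hSK
  by_cases hn : (S.subgroupOf K).Normal
  · have h1 : K ≤ M₀ := ((Subgroup.normal_subgroupOf_iff_le_normalizer hSK).mp hn).trans hNM₀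
    by_contra hne
    exact hM₀.1 (hK.2 _ (lt_of_le_of_ne h1 hne))
  · obtain ⟨x, hx1, hx2⟩ := exists_conj_ne_le_normalizer (h K hK.1 hSK) hn
    rw [← subgroupOf_conj_smul] at hx1 hx2
    have hxK : MulAut.conj (x : G) • S ≤ K := Subgroup.conj_smul_le_of_le hSK x
    have hx3 : MulAut.conj (x : G) • S ≤ Subgroup.normalizer (S : Set G) := by
      rw [← Subgroup.subgroupOf_normalizer_eq hSK] at hx2
      intro y hy
      exact hx2 (show (⟨y, hxK hy⟩ : K) ∈ (MulAut.conj (x : G) • S).subgroupOf K from hy)
    have hTN : S ⊔ MulAut.conj (x : G) • S ≤ Subgroup.normalizer (S : Set G) :=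
      sup_le Subgroup.le_normalizer hx3
    have hlt : S < S ⊔ MulAut.conj (x : G) • S := by
      refine lt_of_le_of_ne le_sup_left fun he => hx1 ?_
      have hle : MulAut.conj (x : G) • S ≤ S := le_sup_right.trans he.ge
      rw [Subgroup.eq_of_le_of_card_ge hle (card_conj_smul S x).ge]
    refine ih _ hlt ?_ ?_ hK hM₀ (sup_le hSK hxK) (hTN.trans hNM₀)
    · intro H hH hTH
      have h1 : S ≤ H := le_sup_left.trans hTH
      have h2 : MulAut.conj (x : G) • S ≤ H := le_sup_right.trans hTH
      rw [subgroupOf_sup_of_le h1 h2]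
      refine S0538.result _ _ (h H hH h1) ?_
      have h3 := subgroupOf_conj_smul_subnormal (x : G) (h (MulAut.conj (x : G)⁻¹ • H) ?_ ?_)
      · rwa [conj_smul_conj_smul, mul_inv_cancel, conj_one_smul] at h3
      · intro ht
        apply hH
        have := congrArg (fun L : Subgroup G => MulAut.conj (x : G) • L) ht
        simp only [conj_smul_conj_smul, mul_inv_cancel, conj_one_smul] at this
        rw [this, Subgroup.Normal.conj_smul_eq_self]
      · rw [map_inv, ← Subgroup.pointwise_smul_subset_iff]
        exact h2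
    · intro hT
      exact hS (Subgroup.IsSubnormal.step S _ le_sup_left hT
        ((Subgroup.normal_subgroupOf_iff_le_normalizer le_sup_left).mpr hTN))

end Cfsg.Agent.H2
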