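import Cfsg.Prelude.Def_SolvableStructure
import Cfsg.Agent.H2.Zipper
import Cfsg.Agent.H2.AbelianCoprime
import Cfsg.Agent.H44.Cores
import Cfsg.Agent.H1.SZConj
import Mathlib.GroupTheory.SchurZassenhaus

set_option autoImplicit false

open scoped Pointwise

namespace Cfsg.Agent.H2

universe u

variable {G : Type u} [Group G]

theorem isNilpotent_of_ker_inf_ker {X Y : Type*} [Group X] [Group Y] [Group.IsNilpotent X]
    [Group.IsNilpotent Y] (f : G →* X) (g : G →* Y) (h : f.ker ⊓ g.ker = ⊥) :
    Group.IsNilpotent G := by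
  have hi : Function.Injective (f.prod g) := by
    rw [← MonoidHom.ker_eq_bot_iff, MonoidHom.ker_prod, h]
  exact Group.nilpotent_of_mulEquiv (MonoidHom.ofInjective hi).symm

theorem carter_subgroupOf {C K : Subgroup G} (hC : IsCarterSubgroup C) (h : C ≤ K) :
    IsCarterSubgroup (C.subgroupOf K) := by
  have := hC.1
  refine ⟨Group.nilpotent_of_mulEquiv (Subgroup.subgroupOfEquivOfLe h).symm, ?_⟩
  rw [← Subgroup.subgroupOf_normalizer_eq h, hC.2]

theorem carter_conj_smul {C : Subgroup G} (hC : IsCarterSubgroup C) (g : G) :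
    IsCarterSubgroup (MulAut.conj g • C) := by
  have := hC.1
  refine ⟨Group.nilpotent_of_mulEquiv (C.equivSMul (MulAut.conj g)), ?_⟩
  rw [normalizer_conj_smul, hC.2]

theorem eq_top_of_normalizer_eq [Group.IsNilpotent G] {C : Subgroup G}
    (hC : Subgroup.normalizer (C : Set G) = C) : C = ⊤ :=
  normalizerCondition_iff_only_full_group_self_normalizing.mp
    Group.normalizerCondition_of_isNilpotent C hC

theorem carter_conj_of_le {K : Subgroup G}
    (hK : ∀ C D : Subgroup K, IsCarterSubgroup C → IsCarterSubgroup D →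
      ∃ g : K, MulAut.conj g • C = D) {C D : Subgroup G} (hC : IsCarterSubgroup C)
    (hD : IsCarterSubgroup D) (hCK : C ≤ K) (hDK : D ≤ K) :
    ∃ k ∈ K, MulAut.conj k • C = D := by
  obtain ⟨k, hk⟩ := hK _ _ (carter_subgroupOf hC hCK) (carter_subgroupOf hD hDK)
  refine ⟨k, k.2, ?_⟩
  rw [← subgroupOf_conj_smul] at hk
  have := congrArg (Subgroup.map K.subtype) hk
  rwa [Subgroup.map_subgroupOf_eq_of_le (Subgroup.conj_smul_le_of_le hCK k),
    Subgroup.map_subgroupOf_eq_of_le hDK] at this

theorem comap_map_mk' (C N : Subgroup G) [N.Normal] :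
    (C.map (QuotientGroup.mk' N)).comap (QuotientGroup.mk' N) = C ⊔ N := by
  rw [Subgroup.comap_map_eq, QuotientGroup.ker_mk']

theorem carter_map_aux {C : Subgroup G} (N : Subgroup G) [N.Normal] (hC : IsCarterSubgroup C)
    (h : C ⊔ N = ⊤ ∨ ∀ C' D : Subgroup (C ⊔ N : Subgroup G), IsCarterSubgroup C' →
      IsCarterSubgroup D → ∃ g : (C ⊔ N : Subgroup G), MulAut.conj g • C' = D) :
    IsCarterSubgroup (C.map (QuotientGroup.mk' N)) := by
  have := hC.1
  refine ⟨Group.nilpotent_of_surjective _ (MonoidHom.subgroupMap_surjective _ _), ?_⟩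
  refine le_antisymm ?_ Subgroup.le_normalizer
  intro x hx
  obtain ⟨g, rfl⟩ := QuotientGroup.mk'_surjective N x
  rw [← Subgroup.mem_comap, comap_map_mk']
  rcases h with h | h
  · rw [h]; trivial
  have h1 : MulAut.conj g • C ≤ C ⊔ N := by
    rw [← comap_map_mk', ← Subgroup.map_le_iff_le_comap, map_conj_smul,
      conj_smul_eq_iff_mem_normalizer.mpr hx]
  obtain ⟨k, hk, hk2⟩ := carter_conj_of_le h (carter_conj_smul hC g) hC h1 le_sup_left
  rw [conj_smul_conj_smul, conj_smul_eq_iff_mem_normalizer, hC.2] at hk2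
  have := (C ⊔ N).mul_mem ((C ⊔ N).inv_mem hk) (Subgroup.mem_sup_left hk2)
  rwa [inv_mul_cancel_left] at this

/-- A normal subgroup of `p`-power index contains every subgroup of order prime to `p`. -/
theorem le_of_index_eq_pow_of_coprime [Finite G] {p k : ℕ} {M Q : Subgroup G} [M.Normal]
    (hM : M.index = p ^ k) (hQ : (Nat.card Q).Coprime p) : Q ≤ M := by
  intro x hx
  refine mem_of_pow_mem_of_coprime (n := M.index) ?_ (M.pow_index_mem x)
  rw [hM]
  exact ((hQ.coprime_dvd_left (Q.orderOf_dvd_natCard hx)).symm).pow_left k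

theorem exists_index_pPrimeCore_of_nilpotent [Finite G] [hG : Group.IsNilpotent G] (p : ℕ)
    [Fact p.Prime] : ∃ k, (pPrimeCore p G).index = p ^ k := by
  have h1 : pPrimeCore p G ⊔ pCore p G = ⊤ := by
    rw [eq_top_iff, sup_comm, ← H44.fitting_eq_top_iff.mpr hG]
    exact H44.fitting_le_pCore_sup_pPrimeCore
  rw [index_eq_relIndex_of_sup_eq_top _ _ h1]
  exact H44.pCore_isPGroup.index _

theorem exists_conj_le_of_le_sup [Finite G] {N Q Q' : Subgroup G} [N.Normal]
    (hN : Group.IsSolvable N) (hcop : (Nat.card Q').Coprime (Nat.card N)) (h : Q' ≤ N ⊔ Q) :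
    ∃ n ∈ N, MulAut.conj n • Q' ≤ Q := by
  obtain ⟨n, hn, h1⟩ := H1.glauberman_fixed Q' N Subgroup.le_normalizer_of_normal hcop
    (Or.inr hN) Q (fun a ha => by
      obtain ⟨n, hn, b, hb, rfl⟩ := Subgroup.mem_sup_of_normal_left.mp (h ha)
      exact ⟨n, hn, by simpa using hb⟩)
  refine ⟨n⁻¹, N.inv_mem hn, ?_⟩
  rintro _ ⟨a, ha, rfl⟩
  simpa using h1 a ha

/-- Carter subgroups of a finite solvable group are conjugate. -/
theorem carter_conj (G : Type u) [Group G] [Finite G] (hG : Group.IsSolvable G)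
    (C D : Subgroup G) (hC : IsCarterSubgroup C) (hD : IsCarterSubgroup D) :
    ∃ g : G, MulAut.conj g • C = D := by
  revert hG C D
  refine card_induction (P := fun G _ _ => Group.IsSolvable G → ∀ C D : Subgroup G,
    IsCarterSubgroup C → IsCarterSubgroup D → ∃ g : G, MulAut.conj g • C = D) G ?_
  intro G _ _ ih hG C D hC hD
  rcases subsingleton_or_nontrivial G with hs | hs
  · exact ⟨1, Subsingleton.elim _ _⟩
  have ih' : ∀ K : Subgroup G, K = ⊤ ∨ ∀ C D : Subgroup K, IsCarterSubgroup C →
      IsCarterSubgroup D → ∃ g : K, MulAut.conj g • C = D := fun K =>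
    (eq_or_ne K ⊤).imp id fun hK => ih K (card_lt_of_ne_top hK) inferInstance
  obtain ⟨N, p, hp, hN, hN0, -, hNp, -, -⟩ := exists_minimal_normal_of_solvable (G := G)
  have := Fact.mk hp
  obtain ⟨x, hx⟩ := ih (G ⧸ N) (card_quotient_lt N hN0) inferInstance _ _
    (carter_map_aux N hC (ih' _)) (carter_map_aux N hD (ih' _))
  obtain ⟨g, rfl⟩ := QuotientGroup.mk'_surjective N x
  rw [← map_conj_smul] at hx
  suffices key : ∀ C : Subgroup G, IsCarterSubgroup C → C ⊔ N = D ⊔ N →
      ∃ g : G, MulAut.conj g • C = D by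
    obtain ⟨g', hg'⟩ := key _ (carter_conj_smul hC g) (by rw [← comap_map_mk', hx, comap_map_mk'])
    exact ⟨g' * g, by rw [← conj_smul_conj_smul, hg']⟩
  clear hx hC g C
  intro C hC hCD
  rcases ih' (D ⊔ N) with htop | h
  swap
  · obtain ⟨k, -, hk⟩ := carter_conj_of_le h hC hD (hCD ▸ le_sup_left) le_sup_left
    exact ⟨k, hk⟩
  -- now `G = C N = D N`
  have hQ : ∀ E : Subgroup G, IsCarterSubgroup E → E ⊔ N = ⊤ →
      (∃ k, ((pPrimeCore p E).map E.subtype).index = p ^ k) ∧
      ∀ Q : Subgroup G, (Nat.card Q).Coprime p →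
        ∃ n ∈ N, MulAut.conj n • Q ≤ (pPrimeCore p E).map E.subtype := by
    intro E hE hEN
    have := hE.1
    obtain ⟨k, hk⟩ := exists_index_pPrimeCore_of_nilpotent (G := E) p
    obtain ⟨j, hj⟩ := hNp.index (E.subgroupOf N)
    have h1 : ((pPrimeCore p E).map E.subtype).index = p ^ (k + j) := by
      rw [Subgroup.index_map_subtype, hk, index_eq_relIndex_of_sup_eq_top E N hEN, pow_add]
      exact congrArg _ hj
    refine ⟨⟨_, h1⟩, fun Q hQ => ?_⟩
    have h2 : (N ⊔ (pPrimeCore p E).map E.subtype).Normal := by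
      rw [← Subgroup.normalizer_eq_top_iff, eq_top_iff, ← hEN]
      refine sup_le ?_ (le_sup_left.trans Subgroup.le_normalizer)
      refine le_trans ?_ (Subgroup.normalizer_inf_normalizer_le_normalizer_sup _ _)
      exact le_inf Subgroup.le_normalizer_of_normal (H44.le_normalizer_pPrimeCoreOf E)
    obtain ⟨i, -, hi⟩ := (Nat.dvd_prime_pow hp).mp
      (h1 ▸ Subgroup.index_dvd_of_le (le_sup_right : _ ≤ N ⊔ (pPrimeCore p E).map E.subtype))
    obtain ⟨a, ha⟩ := IsPGroup.iff_card.mp hNp
    exact exists_conj_le_of_le_sup inferInstance (ha ▸ hQ.pow_right a)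
      (le_of_index_eq_pow_of_coprime hi hQ)
  obtain ⟨-, c2⟩ := hQ C hC (hCD.trans htop)
  obtain ⟨⟨k, d1⟩, d2⟩ := hQ D hD htop
  obtain ⟨n, -, hn⟩ := d2 _ (H44.pPrimeCoreOf_coprime C)
  obtain ⟨m, -, hm⟩ := c2 _ (H44.pPrimeCoreOf_coprime D)
  have hn' := Subgroup.eq_of_le_of_card_ge hn (by
    rw [card_conj_smul, ← card_conj_smul _ m]
    exact Subgroup.card_le_of_le hm)
  set Q := (pPrimeCore p D).map D.subtype with hQdef
  have e1 : MulAut.conj n • C ≤ Subgroup.normalizer (Q : Set G) := by
    rw [← hn', normalizer_conj_smul]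
    exact Subgroup.pointwise_smul_le_pointwise_smul_iff.mpr (H44.le_normalizer_pPrimeCoreOf C)
  rcases ih' (Subgroup.normalizer (Q : Set G)) with hQn | h
  swap
  · obtain ⟨k, -, hk⟩ := carter_conj_of_le h (carter_conj_smul hC n) hD e1
      (H44.le_normalizer_pPrimeCoreOf D)
    exact ⟨k * n, by rw [← conj_smul_conj_smul, hk]⟩
  have := Subgroup.normalizer_eq_top_iff.mp hQn
  have hnil : Group.IsNilpotent G := by
    have := hD.1
    have h1 : Group.IsNilpotent (G ⧸ N) := by
      refine Group.nilpotent_of_surjective ((QuotientGroup.mk' N).comp D.subtype) ?_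
      rw [← MonoidHom.range_eq_top, MonoidHom.range_comp, Subgroup.range_subtype]
      apply Subgroup.comap_injective (QuotientGroup.mk'_surjective N)
      rw [comap_map_mk', htop, Subgroup.comap_top]
    have h2 : Group.IsNilpotent (G ⧸ Q) := (IsPGroup.of_card (G := G ⧸ Q) d1).isNilpotent
    apply isNilpotent_of_ker_inf_ker (QuotientGroup.mk' N) (QuotientGroup.mk' Q)
    rw [QuotientGroup.ker_mk', QuotientGroup.ker_mk']
    exact disjoint_iff.mp (H44.disjoint_of_isPGroup_of_coprime hNp (H44.pPrimeCoreOf_coprime D))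
  exact ⟨1, by rw [conj_one_smul, eq_top_of_normalizer_eq hC.2, eq_top_of_normalizer_eq hD.2]⟩

/-- The image of a Carter subgroup in a quotient of a finite solvable group is a Carter subgroup. -/
theorem carter_map [Finite G] (hG : Group.IsSolvable G) {C : Subgroup G} (N : Subgroup G)
    [N.Normal] (hC : IsCarterSubgroup C) : IsCarterSubgroup (C.map (QuotientGroup.mk' N)) :=
  carter_map_aux N hC (Or.inr (carter_conj _ inferInstance))

/-- A finite solvable group has a Carter subgroup. -/
theorem carter_exists (G : Type u) [Group G] [Finite G] (hG : Group.IsSolvable G) :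
    ∃ C : Subgroup G, IsCarterSubgroup C := by
  revert hG
  refine card_induction (P := fun G _ _ => Group.IsSolvable G →
    ∃ C : Subgroup G, IsCarterSubgroup C) G ?_
  intro G _ _ ih hG
  rcases subsingleton_or_nontrivial G with hs | hs
  · exact ⟨⊤, inferInstance, Subsingleton.elim _ _⟩
  obtain ⟨N, p, hp, hN, hN0, -, hNp, -, -⟩ := exists_minimal_normal_of_solvable (G := G)
  have := Fact.mk hp
  obtain ⟨K', hK'⟩ := ih (G ⧸ N) (card_quotient_lt N hN0) inferInstance
  have hsurj := QuotientGroup.mk'_surjective N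
  set K := K'.comap (QuotientGroup.mk' N) with hK
  have hNK : N ≤ K := QuotientGroup.le_comap_mk' N K'
  have hKK : Subgroup.normalizer (K : Set G) = K := by
    rw [hK, ← Subgroup.comap_normalizer_eq_of_surjective _ hsurj, hK'.2]
  have hnilq : ∀ E : Subgroup G, E ≤ K → Group.IsNilpotent (E.map (QuotientGroup.mk' N)) := by
    intro E hE
    have := hK'.1
    exact Group.nilpotent_of_mulEquiv
      (Subgroup.subgroupOfEquivOfLe (Subgroup.map_le_iff_le_comap.mpr hE))
  by_cases htop : K = ⊤
  · -- `G / N` is nilpotent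
    have hK'top : K' = ⊤ := by
      rw [← Subgroup.map_comap_eq_self_of_surjective hsurj K', ← hK, htop,
        Subgroup.map_top_of_surjective _ hsurj]
    have hnil : Group.IsNilpotent (G ⧸ N) := Group.isNilpotent_top.mp (hK'top ▸ hK'.1)
    obtain ⟨k, hk⟩ := exists_index_pPrimeCore_of_nilpotent (G := G ⧸ N) p
    set L := (pPrimeCore p (G ⧸ N)).comap (QuotientGroup.mk' N) with hL
    have hNL : N ≤ L := QuotientGroup.le_comap_mk' N _
    have hLi : L.index = p ^ k := by rw [hL, Subgroup.index_comap_of_surjective _ hsurj, hk]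
    have hrel : (N.subgroupOf L).index = Nat.card (pPrimeCore p (G ⧸ N)) := by
      have := Subgroup.relIndex_ker L (QuotientGroup.mk' N)
      rw [QuotientGroup.ker_mk', hL, Subgroup.map_comap_eq_self_of_surjective hsurj] at this
      exact this
    obtain ⟨a, ha⟩ := IsPGroup.iff_card.mp hNp
    obtain ⟨Q', hQ'⟩ := Subgroup.exists_right_complement'_of_coprime (N := N.subgroupOf L) (by
      rw [hrel, card_subgroupOf_of_le hNL, ha]
      exact H44.pPrimeCore_coprime.symm.pow_left a)
    set Q := Q'.map L.subtype with hQ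
    have hQc : (Nat.card Q).Coprime p := by
      rw [hQ, Subgroup.card_subtype, ← hQ'.symm.index_eq_card, hrel]
      exact H44.pPrimeCore_coprime
    have hQi : Q.index = p ^ (a + k) := by
      rw [hQ, Subgroup.index_map_subtype, hLi, hQ'.index_eq_card, card_subgroupOf_of_le hNL, ha,
        pow_add]
    set C := Subgroup.normalizer (Q : Set G) with hC
    have hQC : Q ≤ C := Subgroup.le_normalizer
    have hn : (Q.subgroupOf C).Normal := Subgroup.normal_in_normalizer
    obtain ⟨i, -, hi⟩ := (Nat.dvd_prime_pow hp).mp (hQi ▸ Subgroup.relIndex_dvd_index_of_le hQC)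
    refine ⟨C, ?_, le_antisymm ?_ Subgroup.le_normalizer⟩
    · have h2 : Group.IsNilpotent (C ⧸ Q.subgroupOf C) :=
        (IsPGroup.of_card (G := C ⧸ Q.subgroupOf C) hi).isNilpotent
      apply isNilpotent_of_ker_inf_ker ((QuotientGroup.mk' N).comp C.subtype)
        (QuotientGroup.mk' (Q.subgroupOf C))
      rw [QuotientGroup.ker_mk', ← MonoidHom.comap_ker, QuotientGroup.ker_mk', Subgroup.subgroupOf,
        ← Subgroup.comap_inf, disjoint_iff.mp (H44.disjoint_of_isPGroup_of_coprime hNp hQc),
        MonoidHom.comap_bot, Subgroup.ker_subtype]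
    · intro g hg
      have h1 : MulAut.conj g • Q ≤ C := by
        rw [← conj_smul_eq_iff_mem_normalizer.mpr hg]
        exact Subgroup.pointwise_smul_le_pointwise_smul_iff.mpr hQC
      have h2 : (MulAut.conj g • Q).subgroupOf C ≤ Q.subgroupOf C :=
        le_of_index_eq_pow_of_coprime hi (by rw [card_subgroupOf_of_le h1, card_conj_smul]; exact hQc)
      have h3 : MulAut.conj g • Q ≤ Q := fun y hy => h2 (show (⟨y, h1 hy⟩ : C) ∈ _ from hy)
      exact conj_smul_eq_iff_mem_normalizer.mp
        (Subgroup.eq_of_le_of_card_ge h3 (card_conj_smul Q g).ge)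
  · obtain ⟨C', hC'⟩ := ih K (card_lt_of_ne_top htop) inferInstance
    have := hC'.1
    refine ⟨C'.map K.subtype, Group.nilpotent_of_surjective _
      (MonoidHom.subgroupMap_surjective _ _), le_antisymm ?_ Subgroup.le_normalizer⟩
    have h1 : C' ⊔ N.subgroupOf K = ⊤ := by
      have h2 := carter_map inferInstance (N.subgroupOf K) hC'
      have h3 : Group.IsNilpotent (K ⧸ N.subgroupOf K) := by
        have := hnilq K le_rfl
        have e := QuotientGroup.quotientKerEquivOfSurjective _
          (MonoidHom.subgroupMap_surjective (QuotientGroup.mk' N) K)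
        have e2 : ((QuotientGroup.mk' N).subgroupMap K).ker = N.subgroupOf K := by
          rw [Subgroup.ker_subgroupMap, QuotientGroup.ker_mk']
        exact Group.nilpotent_of_mulEquiv
          (e.symm.trans (QuotientGroup.quotientMulEquivOfEq e2))
      rw [← comap_map_mk', eq_top_of_normalizer_eq h2.2, Subgroup.comap_top]
    have h2 : C'.map K.subtype ⊔ N = K := by
      have := congrArg (Subgroup.map K.subtype) h1
      rwa [Subgroup.map_sup, Subgroup.map_subgroupOf_eq_of_le hNK, ← MonoidHom.range_eq_map,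
        Subgroup.range_subtype] at this
    intro g hg
    have hgK : g ∈ K := by
      rw [← hKK, ← h2]
      exact Subgroup.normalizer_le_normalizer_sup_normal hg
    have h3 : (⟨g, hgK⟩ : K) ∈ (Subgroup.normalizer (C'.map K.subtype : Set G)).subgroupOf K := hg
    rw [Subgroup.subgroupOf_normalizer_eq (Subgroup.map_subtype_le _), Subgroup.subgroupOf,
      Subgroup.comap_map_eq_self_of_injective K.subtype_injective, hC'.2] at h3
    exact ⟨_, h3, rfl⟩

end Cfsg.Agent.H2
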